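import Cfsg.Agent.Lib.Chev.Tw.Common

/-!
Root elements on sparse vectors whose coefficients are polynomials in the parameter.
-/

set_option autoImplicit false

namespace Cfsg.Agent.Lib.Chev.Fold

open Cfsg.Lie
open scoped Matrix

/-- Column `a` of `x_r(t)` as terms (code, degree, coefficient). -/
def xcolP (D : ChevalleyDatum) (T : Tables) (r a : ℕ) : List (ℕ × ℕ × ℤ) :=
  if D.nroots ≤ a then [(a, 0, 1), (r, 1, - T.A (a - D.nroots) r)]
  else if a = r then [(r, 0, 1)]
  else if a = ng D r then
    (a, 0, 1) :: (r, 2, -1) :: (List.range D.rank).map fun i => (D.nroots + i, 1, T.c r i)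
  else (a, 0, 1) :: (T.ch r a).zipIdx.map fun q => (q.1.1, q.2 + 1, q.1.2)

/-- Number of coordinates. -/
def dimN (D : ChevalleyDatum) : ℕ := D.nroots + D.rank

/-- Key of a coordinate and a degree. -/
def pkey (D : ChevalleyDatum) (a d : ℕ) : ℕ := d * dimN D + a

/-- Apply `x_r(t)` to a polynomial vector. -/
def applyXP (D : ChevalleyDatum) (T : Tables) (r : ℕ) (v : List (ℕ × ℤ)) : List (ℕ × ℤ) :=
  v.flatMap fun p => if p.2 = 0 then [] else (xcolP D T r (p.1 % dimN D)).map fun q =>
    (pkey D q.1 (p.1 / dimN D + q.2.1), p.2 * q.2.2)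

/-- Apply the product of the `x_r(t)` over a list of roots. -/
def applyWP (D : ChevalleyDatum) (T : Tables) : List ℕ → List (ℕ × ℤ) → List (ℕ × ℤ)
  | [], v => v
  | r :: R, v => applyXP D T r (applyWP D T R v)

/-- Value of a polynomial vector. -/
def pvec (D : ChevalleyDatum) {F : Type*} [Field F] (t : F) (v : List (ℕ × ℤ)) : D.Idx → F :=
  (v.map fun p => ((p.2 : F) * t ^ (p.1 / dimN D)) • bas D F (p.1 % dimN D)).sum

variable {D : ChevalleyDatum} {T : Tables} {F : Type*} [Field F]

theorem pkey_div {a d : ℕ} (ha : a < dimN D) : pkey D a d / dimN D = d := by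
  rw [pkey, Nat.mul_comm, Nat.mul_add_div (by omega), Nat.div_eq_of_lt ha, Nat.add_zero]

theorem pkey_mod {a d : ℕ} (ha : a < dimN D) : pkey D a d % dimN D = a := by
  rw [pkey, Nat.mul_comm, Nat.mul_add_mod, Nat.mod_eq_of_lt ha]

theorem pvec_nil (t : F) : pvec D t [] = 0 := rfl

theorem pvec_cons (t : F) (p : ℕ × ℤ) (v : List (ℕ × ℤ)) : pvec D t (p :: v) =
    ((p.2 : F) * t ^ (p.1 / dimN D)) • bas D F (p.1 % dimN D) + pvec D t v := by
  simp [pvec]

theorem pvec_append (t : F) (u v : List (ℕ × ℤ)) :
    pvec D t (u ++ v) = pvec D t u + pvec D t v := by simp [pvec]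

theorem pvec_eq_sum (t : F) : ∀ (v : List (ℕ × ℤ)) (S : Finset ℕ), (∀ p ∈ v, p.1 ∈ S) →
    pvec D t v = ∑ k ∈ S, (coef v k : F) • (t ^ (k / dimN D)) • bas D F (k % dimN D) := by
  intro v
  induction v with
  | nil => intro S _; simp [pvec_nil, coef]
  | cons p v ih =>
    intro S hS
    rw [pvec_cons, ih S fun q hq => hS q (List.mem_cons_of_mem _ hq)]
    simp only [coef, Int.cast_add, add_smul, Finset.sum_add_distrib]
    congr 1
    rw [Finset.sum_eq_single_of_mem p.1 (hS p List.mem_cons_self)
      (fun k _ hk => by simp [Ne.symm hk])]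
    simp [smul_smul]

theorem pvec_eq_of_eqVec (t : F) {u v : List (ℕ × ℤ)} (h : eqVec u v = true) :
    pvec D t u = pvec D t v := by
  have key := List.all_eq_true.1 h
  set S := (u.map Prod.fst ++ v.map Prod.fst).toFinset with hS
  rw [pvec_eq_sum t u S fun p hp => List.mem_toFinset.2
      (List.mem_append_left _ (List.mem_map_of_mem hp)),
    pvec_eq_sum t v S fun p hp => List.mem_toFinset.2
      (List.mem_append_right _ (List.mem_map_of_mem hp))]
  refine Finset.sum_congr rfl fun k hk => ?_
  have := key k (List.mem_toFinset.1 hk)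
  rw [beq_iff_eq] at this
  rw [this]

theorem xcolP_spec (G : Good D T) {r a : ℕ} (hr : r < D.nroots) (ha : a < dimN D) (t : F) :
    (∀ q ∈ xcolP D T r a, q.1 < dimN D) ∧
      ((xcolP D T r a).map fun q => ((q.2.2 : F) * t ^ q.2.1) • bas D F q.1).sum =
        D.x F r t *ᵥ bas D F a := by
  unfold dimN at ha ⊢
  rcases code_cases D ha with ⟨i, hi, rfl⟩ | ha'
  · have hge : D.nroots ≤ D.nroots + i := Nat.le_add_right _ _
    rw [xcolP, if_pos hge]
    refine ⟨fun p hp => ?_, ?_⟩
    · simp at hp; rcases hp with rfl | rfl <;> simp <;> omega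
    · simp [G.x_bas_h hr hi]
  · rw [xcolP, if_neg (by omega)]
    by_cases h1 : a = r
    · subst h1
      rw [if_pos rfl]
      refine ⟨fun p hp => ?_, ?_⟩
      · simp at hp; subst hp; simp; omega
      · simp [G.x_bas_self hr]
    rw [if_neg h1]
    by_cases h2 : a = ng D r
    · subst h2
      rw [if_pos rfl]
      refine ⟨fun p hp => ?_, ?_⟩
      · simp at hp
        rcases hp with rfl | rfl | ⟨i, hi, rfl⟩ <;> simp <;> omega
      · rw [G.x_bas_ng hr]
        have : (((List.range D.rank).map fun i => (D.nroots + i, 1, T.c r i)).map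
            fun q : ℕ × ℕ × ℤ => ((q.2.2 : F) * t ^ q.2.1) • bas D F q.1).sum =
              t • hvec D T F r := by
          rw [List.map_map, hvec, Finset.smul_sum, ← List.sum_toFinset _ List.nodup_range]
          refine Finset.sum_congr (by ext; simp) fun i _ => ?_
          simp [smul_smul, mul_comm]
        rw [List.map_cons, List.map_cons, List.sum_cons, List.sum_cons, this]
        push_cast
        rw [pow_zero, one_mul, one_smul, neg_mul, one_mul]
        abel
    rw [if_neg h2]
    refine ⟨fun p hp => ?_, ?_⟩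
    · simp only [List.mem_cons, List.mem_map] at hp
      rcases hp with rfl | ⟨⟨⟨u, M⟩, m⟩, hq, rfl⟩
      · exact ha
      · have := (G.ch_entry hr ha' (List.mk_mem_zipIdx_iff_getElem?.1 hq)).1
        simp; omega
    · rw [G.x_bas_other hr ha' h1 h2, List.map_cons, List.sum_cons, chVec, List.map_map]
      simp only [Int.cast_one, pow_zero, mul_one, one_smul, add_right_inj]
      rfl

theorem applyXP_spec (G : Good D T) {r : ℕ} (hr : r < D.nroots) (hN : 0 < dimN D) (t : F) :
    ∀ v, pvec D t (applyXP D T r v) = D.x F r t *ᵥ pvec D t v := by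
  intro v
  induction v with
  | nil => simp [applyXP, pvec_nil]
  | cons p v ih =>
    have e : applyXP D T r (p :: v) =
        (if p.2 = 0 then [] else (xcolP D T r (p.1 % dimN D)).map fun q =>
          (pkey D q.1 (p.1 / dimN D + q.2.1), p.2 * q.2.2)) ++ applyXP D T r v := by simp [applyXP]
    rw [e, pvec_append, ih, pvec_cons, Matrix.mulVec_add, Matrix.mulVec_smul]
    congr 1
    obtain ⟨h1, h2⟩ := xcolP_spec G hr (Nat.mod_lt p.1 hN) t
    rw [← h2]
    split
    · rename_i h0
      simp [h0, pvec_nil]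
    · rw [pvec, List.map_map, List.smul_sum, List.map_map]
      congr 1
      refine List.map_congr_left fun q hq => ?_
      simp only [Function.comp_apply, pkey_div (h1 q hq), pkey_mod (h1 q hq), smul_smul]
      congr 1
      push_cast
      ring

theorem applyWP_spec (G : Good D T) (hN : 0 < dimN D) (t : F) :
    ∀ R : List ℕ, (∀ r ∈ R, r < D.nroots) → ∀ v, pvec D t (applyWP D T R v) =
      D.wordMat F (R.map fun r => (r, t)) *ᵥ pvec D t v := by
  intro R
  induction R with
  | nil => intro _ v; simp [applyWP, ChevalleyDatum.wordMat]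
  | cons r R ih =>
    intro hR v
    show pvec D t (applyXP D T r (applyWP D T R v)) = _
    rw [applyXP_spec G (hR r List.mem_cons_self) hN, ih (fun x hx => hR x (List.mem_cons_of_mem _ hx)),
      Matrix.mulVec_mulVec]
    simp [ChevalleyDatum.wordMat]

/-- A vector without parameter. -/
theorem pvec_low (t : F) : ∀ {v : List (ℕ × ℤ)}, (∀ p ∈ v, p.1 < dimN D) →
    pvec D t v = vecOf D F v := by
  intro v
  induction v with
  | nil => intro _; simp [pvec_nil, vecOf]
  | cons p v ih =>
    intro h
    have hp := h p List.mem_cons_self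
    rw [pvec_cons, vecOf_cons, ih fun q hq => h q (List.mem_cons_of_mem _ hq),
      Nat.div_eq_of_lt hp, Nat.mod_eq_of_lt hp, pow_zero, mul_one]

end Cfsg.Agent.Lib.Chev.Fold
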